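import Cfsg.Agent.S0205
import Cfsg.Agent.Lib.ZStar.Main
import Cfsg.Agent.Lib.Frobenius.Kernel
import Cfsg.Agent.Lib.CharTheory.FeitTheorem
import Cfsg.Agent.Lib.NilpotentCommute
import Cfsg.Agent.Lib.Involutions
import Mathlib.GroupTheory.Transfer
import Mathlib.GroupTheory.Commutator.Basic

/-!
Groups with a Frobenius system: the solvable radical and the maximal solvable subgroup above a Sylow
normaliser.
-/

set_option autoImplicit false
set_option linter.unusedSectionVars false
set_option linter.style.haveILetI false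

namespace CfsgLib.FrobSystem

open Subgroup Cfsg
open scoped Pointwise

variable {G : Type*} [Group G] [Finite G]

/-- A solvable subgroup contained in no larger solvable subgroup. -/
def MaxSolv (M : Subgroup G) : Prop :=
  Group.IsSolvable M ∧ ∀ M' : Subgroup G, M < M' → ¬ Group.IsSolvable M'

/-- The hypothesis. -/
def IsSystem (F : Subgroup G → Subgroup G) : Prop :=
  ∀ M : Subgroup G, MaxSolv M →
    F M ≤ M ∧ M ≤ Subgroup.normalizer (F M : Set G) ∧
    (∀ a ∈ M, a ∉ F M → ∀ x ∈ F M, x * a = a * x → x = 1) ∧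
    (∀ g : G, g ∉ M → F M ⊓ (MulAut.conj g • F M) = ⊥) ∧
    (F M ≠ ⊥ ∨ IsMulCommutative M)

theorem exists_maxSolv (H : Subgroup G) (hH : Group.IsSolvable H) : ∃ M : Subgroup G, H ≤ M ∧ MaxSolv M := by
  obtain ⟨M, hHM, hM⟩ := Finite.exists_le_maximal (p := fun K : Subgroup G => Group.IsSolvable K) hH
  exact ⟨M, hHM, hM.prop, fun M' hlt hs => hlt.not_ge (hM.2 hs hlt.le)⟩

theorem mem_conj_smul {g x : G} {K : Subgroup G} : x ∈ MulAut.conj g • K ↔ g⁻¹ * x * g ∈ K := by
  rw [Subgroup.mem_pointwise_smul_iff_inv_smul_mem, ← map_inv, MulAut.smul_def, MulAut.conj_apply, inv_inv]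

theorem eq_one_of_ti {F : Subgroup G → Subgroup G} (h : IsSystem F) {M : Subgroup G} (hM : MaxSolv M) {g x : G}
    (hg : g ∉ M) (hx : x ∈ F M) (hgx : g⁻¹ * x * g ∈ F M) : x = 1 := by
  have hm : x ∈ F M ⊓ (MulAut.conj g • F M) := ⟨hx, mem_conj_smul.mpr hgx⟩
  rwa [(h M hM).2.2.2.1 g hg, Subgroup.mem_bot] at hm

/-- Centralisers of non-trivial elements of the kernel lie in the kernel. -/
theorem mem_of_commute {F : Subgroup G → Subgroup G} (h : IsSystem F) {M : Subgroup G} (hM : MaxSolv M) {x y : G}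
    (hx : x ∈ F M) (hx1 : x ≠ 1) (hc : y * x = x * y) : y ∈ F M := by
  have hyM : y ∈ M := by
    by_contra hy
    exact hx1 (eq_one_of_ti h hM hy hx (by rw [mul_assoc, ← hc, inv_mul_cancel_left]; exact hx))
  by_contra hy
  exact hx1 ((h M hM).2.2.1 y hyM hy x hx hc.symm)

theorem exists_abelian_normal (N : Subgroup G) [hN : N.Normal] (hs : Group.IsSolvable N) (hN1 : N ≠ ⊥) :
    ∃ A : Subgroup G, A.Normal ∧ A ≤ N ∧ A ≠ ⊥ ∧ ∀ a ∈ A, ∀ b ∈ A, a * b = b * a := by
  obtain ⟨A, ⟨hAn, hA1, hAN⟩, hmin⟩ := (wellFounded_lt (α := Subgroup G)).has_min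
    {A | A.Normal ∧ A ≠ ⊥ ∧ A ≤ N} ⟨N, hN, hN1, le_rfl⟩
  refine ⟨A, hAn, hAN, hA1, ?_⟩
  haveI := hAn
  by_cases he : ⁅A, A⁆ = ⊥
  · intro a ha b hb
    have hm := Subgroup.commutator_mem_commutator ha hb
    rw [he, Subgroup.mem_bot, commutatorElement_eq_one_iff_mul_comm] at hm
    exact hm
  exfalso
  have hle : ⁅A, A⁆ ≤ A := commutator_le_right A A
  have heq : ⁅A, A⁆ = A := by
    by_contra hne
    exact hmin ⁅A, A⁆ ⟨inferInstance, he, hle.trans hAN⟩ (lt_of_le_of_ne hle hne)
  haveI := hs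
  haveI : Group.IsSolvable A := Group.isSolvable_of_isSolvable_injective (Subgroup.inclusion_injective hAN)
  haveI : Nontrivial A := (nontrivial_iff_ne_bot A).mpr hA1
  refine (Group.IsSolvable.commutator_lt_top_of_nontrivial A).ne ?_
  refine Subgroup.map_injective A.subtype_injective ?_
  rw [_root_.commutator_def, Subgroup.map_commutator, ← MonoidHom.range_eq_map, Subgroup.range_subtype, heq]

theorem solvable_normalizer_sylow (S : Sylow 2 G) :
    Group.IsSolvable ↥(normalizer ((S : Subgroup G) : Set G)) := by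
  haveI : Fact (Nat.Prime 2) := ⟨Nat.prime_two⟩
  set N := normalizer ((S : Subgroup G) : Set G)
  set T := (S : Subgroup G).subgroupOf N with hT
  haveI : T.Normal := Subgroup.normal_in_normalizer
  haveI : Group.IsNilpotent T := (S.2.comap_subtype).isNilpotent
  have hodd : Odd (Nat.card (N ⧸ T)) := by
    rw [← Subgroup.index_eq_card, ← Nat.not_even_iff_odd, even_iff_two_dvd, hT]
    intro hd
    have h1 : ¬ 2 ∣ (S : Subgroup G).index := S.not_dvd_index'
      (Subgroup.index_ne_zero_of_finite)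
    refine h1 (hd.trans ?_)
    exact Subgroup.relIndex_dvd_index_of_le le_normalizer
  haveI : Group.IsSolvable (N ⧸ T) := Cfsg.Agent.S0205.result hodd
  exact Group.isSolvable_of_ker_le_range (T.subtype) (QuotientGroup.mk' T)
    (by rw [QuotientGroup.ker_mk', Subgroup.range_subtype])

theorem solvable_of_central_sylow (S : Sylow 2 G)
    (hc : normalizer ((S : Subgroup G) : Set G) ≤ centralizer (S : Set G)) : Group.IsSolvable G := by
  haveI : Fact (Nat.Prime 2) := ⟨Nat.prime_two⟩
  have hK := MonoidHom.ker_transferSylow_isComplement' S hc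
  haveI : IsMulCommutative (S : Subgroup G) :=
    ⟨⟨fun a b => Subtype.ext (hc (le_normalizer b.2) a a.2)⟩⟩
  have hodd : Odd (Nat.card (MonoidHom.transferSylow S hc).ker) := by
    rw [show Nat.card ↥(MonoidHom.transferSylow S hc).ker = (S : Subgroup G).index from hK.index_eq_card.symm,
      ← Nat.not_even_iff_odd, even_iff_two_dvd]
    exact S.not_dvd_index' Subgroup.index_ne_zero_of_finite
  haveI : Group.IsSolvable (MonoidHom.transferSylow S hc).ker := Cfsg.Agent.S0205.result hodd
  haveI : Group.IsSolvable (S : Subgroup G) := Group.isSolvable_of_comm fun a b => mul_comm' a b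
  exact Group.isSolvable_of_ker_le_range (MonoidHom.transferSylow S hc).ker.subtype (MonoidHom.transferSylow S hc)
    (by rw [Subgroup.range_subtype])

/-- Some maximal solvable subgroup above a Sylow normaliser has a non-trivial kernel. -/
theorem exists_kernel {F : Subgroup G → Subgroup G} (h : IsSystem F) (hns : ¬ Group.IsSolvable G) (S : Sylow 2 G) :
    ∃ M : Subgroup G, MaxSolv M ∧ normalizer ((S : Subgroup G) : Set G) ≤ M ∧ F M ≠ ⊥ := by
  obtain ⟨M, hle, hM⟩ := exists_maxSolv _ (solvable_normalizer_sylow S)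
  refine ⟨M, hM, hle, fun e => hns ?_⟩
  haveI := (h M hM).2.2.2.2.resolve_left (fun h1 => h1 e)
  refine solvable_of_central_sylow S fun x hx => Subgroup.mem_centralizer_iff.mpr fun s hs => ?_
  exact congrArg Subtype.val (mul_comm' (⟨s, hle (le_normalizer hs)⟩ : M) ⟨x, hle hx⟩)

/-- The solvable radical is trivial. -/
theorem radical {F : Subgroup G → Subgroup G} (h : IsSystem F) (hns : ¬ Group.IsSolvable G) (N : Subgroup G)
    [hN : N.Normal] (hs : Group.IsSolvable N) : N = ⊥ := by
  by_contra hN1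
  obtain ⟨A, hAn, hAN, hA1, hAc⟩ := exists_abelian_normal N hs hN1
  haveI := hAn
  obtain ⟨S⟩ : Nonempty (Sylow 2 G) := inferInstance
  obtain ⟨M, hM, -, hF⟩ := exists_kernel h hns S
  haveI := hM.1
  have hAM : A ≤ M := by
    haveI : Group.IsSolvable A := by
      haveI := hs
      exact Group.isSolvable_of_isSolvable_injective (Subgroup.inclusion_injective hAN)
    by_contra hle
    refine hM.2 (A ⊔ M) (lt_of_le_of_ne le_sup_right fun e => hle (le_sup_left.trans e.ge)) ?_
    haveI : (A.subgroupOf (A ⊔ M)).Normal := Subgroup.normal_subgroupOf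
    haveI : Group.IsSolvable (A.subgroupOf (A ⊔ M)) :=
      Group.isSolvable_of_isSolvable_injective (f := (Subgroup.subgroupOfEquivOfLe (le_sup_left : A ≤ A ⊔ M)).toMonoidHom)
        (MulEquiv.injective _)
    haveI : Group.IsSolvable (↥(A ⊔ M) ⧸ A.subgroupOf (A ⊔ M)) := by
      refine Group.isSolvable_of_surjective
        (f := (QuotientGroup.mk' (A.subgroupOf (A ⊔ M))).comp (Subgroup.inclusion (le_sup_right : M ≤ A ⊔ M))) fun q => ?_
      obtain ⟨⟨x, hx⟩, rfl⟩ := QuotientGroup.mk_surjective q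
      obtain ⟨a, ha, m, hm, rfl⟩ := (Subgroup.mem_sup_of_normal_left (s := A)).mp hx
      refine ⟨⟨m, hm⟩, QuotientGroup.eq.mpr ?_⟩
      rw [Subgroup.mem_subgroupOf]
      show m⁻¹ * (a * m) ∈ A
      have := hAn.conj_mem a ha m⁻¹
      rwa [inv_inv, mul_assoc] at this
    exact Group.isSolvable_of_ker_le_range (A.subgroupOf (A ⊔ M)).subtype (QuotientGroup.mk' (A.subgroupOf (A ⊔ M)))
      (by rw [QuotientGroup.ker_mk', Subgroup.range_subtype])
  obtain ⟨x, hxA, hx1, hxF⟩ : ∃ x ∈ A, x ≠ 1 ∧ x ∈ F M := by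
    by_contra hcon
    push Not at hcon
    obtain ⟨f, hf, hf1⟩ := (bot_or_exists_ne_one (F M)).resolve_left hF
    obtain ⟨a, ha, ha1⟩ := (bot_or_exists_ne_one A).resolve_left hA1
    have haF : a ∈ F M := by
      refine mem_of_commute h hM hf hf1 ?_
      have hnm := (Subgroup.mem_normalizer_iff.mp ((h M hM).2.1 (hAM ha)) f).mp hf
      have h1 : a * f * a⁻¹ * f⁻¹ = 1 := by
        by_contra hne
        refine hcon _ ?_ hne (mul_mem hnm (inv_mem hf))
        rw [show a * f * a⁻¹ * f⁻¹ = a * (f * a⁻¹ * f⁻¹) by group]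
        exact mul_mem ha (hAn.conj_mem _ (inv_mem ha) f)
      exact mul_inv_eq_iff_eq_mul.mp (mul_inv_eq_one.mp h1)
    exact hcon a ha ha1 haF
  have hAF : A ≤ F M := fun a ha => mem_of_commute h hM hxF hx1 (hAc a ha x hxA)
  have htop : M = ⊤ := (Subgroup.eq_top_iff' M).mpr fun g => by
    by_contra hg
    exact hx1 (eq_one_of_ti h hM hg hxF (hAF (by simpa using hAn.conj_mem x hxA g⁻¹)))
  subst htop
  exact hns (Group.isSolvable_of_isSolvable_injective (f := (Subgroup.topEquiv (G := G)).symm.toMonoidHom) (MulEquiv.injective _))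

theorem core_eq_bot {F : Subgroup G → Subgroup G} (h : IsSystem F) (hns : ¬ Group.IsSolvable G) :
    pPrimeCore 2 G = ⊥ := by
  refine le_bot_iff.mp (sSup_le fun N hN => le_bot_iff.mpr ?_)
  haveI := hN.1
  exact radical h hns N (Cfsg.Agent.S0205.result (Nat.coprime_two_right.mp hN.2))

/-- A Sylow 2-subgroup has more than one involution. -/
theorem two_involutions {F : Subgroup G → Subgroup G} (h : IsSystem F) (hns : ¬ Group.IsSolvable G) (S : Sylow 2 G) :
    ∃ s ∈ S, ∃ t ∈ S, orderOf s = 2 ∧ orderOf t = 2 ∧ s ≠ t := by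
  haveI : Fact (Nat.Prime 2) := ⟨Nat.prime_two⟩
  have heven : 2 ∣ Nat.card G := by
    by_contra hh
    exact hns (Cfsg.Agent.S0205.result (Nat.not_even_iff_odd.mp fun e => hh (even_iff_two_dvd.mp e)))
  obtain ⟨⟨z, hz⟩, hzo⟩ := exists_prime_orderOf_dvd_card' (G := (S : Subgroup G)) 2
    (S.dvd_card_of_dvd_card heven)
  rw [Subgroup.orderOf_mk] at hzo
  by_contra hcon
  push Not at hcon
  have hiso : IsIsolated z := ZStar.isolated_of_sylow S hzo hz fun g hg =>
    (hcon z hz _ hg hzo (by rw [ZStar.orderOf_conj, hzo])).symm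
  have hzc : z ∈ center G := Subgroup.mem_center_iff.mpr fun g => by
    have hm := ZStar.inZStar hzo hiso g
    rw [core_eq_bot h hns, Subgroup.mem_bot, mul_inv_eq_one, mul_inv_eq_iff_eq_mul] at hm
    exact hm
  haveI : Group.IsSolvable ↥(center G) := Group.isSolvable_of_comm fun a b => Subtype.ext
    (Subgroup.mem_center_iff.mp b.2 a)
  rw [radical h hns (center G) inferInstance, Subgroup.mem_bot] at hzc
  rw [hzc, orderOf_one] at hzo
  omega

end CfsgLib.FrobSystem
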