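import Cfsg.Agent.Lib.FrobSystem.Basic
import Cfsg.Agent.Lib.CentTI.Zass
import Cfsg.Agent.Lib.CIT.TI

/-!
The kernel above a Sylow normaliser is the Sylow 2-subgroup itself, and it is a trivial intersection subgroup
containing the centralisers of its involutions.
-/

set_option autoImplicit false
set_option linter.unusedSectionVars false
set_option linter.style.haveILetI false

namespace CfsgLib.FrobSystem

open Subgroup Cfsg
open scoped Pointwise
open CfsgLib.Involutions (mul_self_eq_one_of_orderOf inv_eq_self_of_orderOf orderOf_conj)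

variable {G : Type*} [Group G] [Finite G] {F : Subgroup G → Subgroup G}

theorem kernel_ne (h : IsSystem F) (hns : ¬ Group.IsSolvable G) {M : Subgroup G} (hM : MaxSolv M) : F M ≠ M := by
  intro e
  have hMt : M ≠ ⊤ := by
    rintro rfl
    haveI := hM.1
    exact hns (Group.isSolvable_of_isSolvable_injective (f := (Subgroup.topEquiv (G := G)).symm.toMonoidHom)
      (MulEquiv.injective _))
  by_cases hb : M = ⊥
  · subst hb
    obtain ⟨g, hg⟩ : ∃ g : G, g ≠ 1 := by
      by_contra hh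
      push Not at hh
      haveI : Subsingleton G := ⟨fun a b => (hh a).trans (hh b).symm⟩
      exact hns inferInstance
    haveI : Group.IsSolvable (zpowers g) := Group.isSolvable_of_comm fun a b => mul_comm' a b
    exact hM.2 (zpowers g) (bot_lt_iff_ne_bot.mpr (Subgroup.zpowers_ne_bot.mpr hg)) inferInstance
  have hH : IsFrobeniusComplement M := ⟨hb, hMt, fun g hg => by
    have := (h M hM).2.2.2.1 g hg
    rwa [e] at this⟩
  obtain ⟨N, -, hNn, hNc, hNnil⟩ := CfsgLib.Frob.exists_nilpotent_kernel hH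
  haveI := hNn
  haveI := hNnil
  rw [radical h hns N inferInstance] at hNc
  exact hMt (Subgroup.isComplement'_bot_left.mp hNc)

theorem kernel_nilpotent (h : IsSystem F) (hns : ¬ Group.IsSolvable G) {M : Subgroup G} (hM : MaxSolv M) :
    Group.IsNilpotent (F M) := by
  classical
  obtain ⟨hle, hn, -⟩ := h M hM
  haveI : ((F M).subgroupOf M).Normal := Subgroup.normal_subgroupOf_iff_le_normalizer hle |>.mpr hn
  haveI := Fintype.ofFinite M
  haveI : Group.IsNilpotent ((F M).subgroupOf M) := by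
    refine CfsgLib.CharTheory.nilpotent_of_centralizer_kernel _ ?_ fun k hk hk1 x hx => ?_
    · rw [ne_eq, Subgroup.subgroupOf_eq_top]
      exact fun hh => kernel_ne h hns hM (le_antisymm hle hh)
    · exact mem_of_commute h hM (Subgroup.mem_subgroupOf.mp hk) (fun e => hk1 (Subtype.ext e))
        (congrArg Subtype.val (Subgroup.mem_centralizer_singleton_iff.mp hx))
  exact Group.nilpotent_of_mulEquiv (Subgroup.subgroupOfEquivOfLe hle)

/-- An involution acting without fixed points inverts. -/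
theorem inverts {K : Subgroup G} {t : G} (ht : orderOf t = 2) (hn : t ∈ normalizer (K : Set G))
    (hfix : ∀ x ∈ K, x * t = t * x → x = 1) : ∀ m ∈ K, t * m * t⁻¹ = m⁻¹ := by
  intro m hm
  have hconj : ∀ x ∈ K, t * x * t⁻¹ ∈ K := fun x hx => (Subgroup.mem_normalizer_iff.mp hn x).mp hx
  let f : K → K := fun x => ⟨(x : G)⁻¹ * (t * x * t⁻¹), mul_mem (inv_mem x.2) (hconj x x.2)⟩
  have hinj : Function.Injective f := by
    intro x y e
    have e' : (x : G)⁻¹ * (t * x * t⁻¹) = (y : G)⁻¹ * (t * y * t⁻¹) := congrArg Subtype.val e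
    refine Subtype.ext (mul_inv_eq_one.mp (hfix _ (mul_mem y.2 (inv_mem x.2)) ?_)).symm
    calc (y : G) * (x : G)⁻¹ * t = y * ((x : G)⁻¹ * (t * x * t⁻¹)) * (t * (x : G)⁻¹) := by group
      _ = y * ((y : G)⁻¹ * (t * y * t⁻¹)) * (t * (x : G)⁻¹) := by rw [e']
      _ = _ := by group
  obtain ⟨x, hx⟩ := Finite.injective_iff_surjective.mp hinj ⟨m, hm⟩
  have hx' : (x : G)⁻¹ * (t * x * t⁻¹) = m := congrArg Subtype.val hx
  have ht' := inv_eq_self_of_orderOf ht
  rw [← hx', ht', mul_inv_rev, inv_inv, mul_inv_rev, mul_inv_rev, ht',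
    show t * ((x : G)⁻¹ * (t * x * t)) * t = t * (x : G)⁻¹ * t * x * (t * t) by group,
    mul_self_eq_one_of_orderOf ht, mul_one]
  group

theorem sylow_le_kernel (h : IsSystem F) (hns : ¬ Group.IsSolvable G) {M : Subgroup G} (hM : MaxSolv M)
    (hF : F M ≠ ⊥) (S : Sylow 2 G) (hS : (S : Subgroup G) ≤ M) : (S : Subgroup G) ≤ F M := by
  haveI : Fact (Nat.Prime 2) := ⟨Nat.prime_two⟩
  obtain ⟨hle, hn, hfpf, -⟩ := h M hM
  obtain ⟨x, hxS, hxF, hx1⟩ : ∃ x, x ∈ S ∧ x ∈ F M ∧ x ≠ 1 := by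
    by_contra hcon
    push Not at hcon
    obtain ⟨s, hs, t, ht, hso, hto, hne⟩ := two_involutions h hns S
    obtain ⟨f, hf, hf1⟩ := (bot_or_exists_ne_one (F M)).resolve_left hF
    have hout : ∀ u ∈ S, orderOf u = 2 → ∀ m ∈ F M, u * m * u⁻¹ = m⁻¹ := fun u hu huo =>
      inverts huo (hn (hS hu)) fun y hy hc => hfpf u (hS hu) (fun huF => by
        rw [hcon u hu huF, orderOf_one] at huo; omega) y hy hc
    have e1 := hout s hs hso f hf
    have e2 := hout t ht hto f⁻¹ (inv_mem hf)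
    rw [inv_inv] at e2
    have hm : t * s ∈ F M := mem_of_commute h hM hf hf1 (by
      calc t * s * f = t * (s * f * s⁻¹) * s := by group
        _ = t * f⁻¹ * t⁻¹ * (t * s) := by rw [e1]; group
        _ = _ := by rw [e2])
    have := hcon (t * s) (mul_mem ht hs) hm
    exact hne (by rw [mul_eq_one_iff_eq_inv] at this; rw [this, inv_eq_self_of_orderOf hso])
  have hnor : ((F M).subgroupOf (S : Subgroup G)).Normal := ⟨fun a ha b => by
    rw [Subgroup.mem_subgroupOf] at ha ⊢
    exact (Subgroup.mem_normalizer_iff.mp (hn (hS b.2)) a).mp ha⟩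
  haveI := hnor
  haveI : Group.IsNilpotent (S : Subgroup G) := S.2.isNilpotent
  obtain ⟨z, hz, hz1⟩ := (bot_or_exists_ne_one _).resolve_left
    (CfsgLib.inf_center_ne_bot_of_nilpotent (G := (S : Subgroup G)) (N := (F M).subgroupOf (S : Subgroup G))
      fun e => hx1 (by
        have hm : (⟨x, hxS⟩ : (S : Subgroup G)) ∈ (F M).subgroupOf (S : Subgroup G) := hxF
        rw [e, Subgroup.mem_bot] at hm
        exact congrArg Subtype.val hm))
  intro y hy
  exact mem_of_commute h hM (Subgroup.mem_subgroupOf.mp hz.1) (fun e => hz1 (Subtype.ext e))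
    (congrArg Subtype.val (Subgroup.mem_center_iff.mp hz.2 ⟨y, hy⟩))

theorem mem_of_two_element {K : Subgroup G} [Group.IsNilpotent K] (S : Sylow 2 G) (hSK : (S : Subgroup G) ≤ K)
    {P : Subgroup G} (hP : IsPGroup 2 P) (hPK : P ≤ K) : P ≤ S := by
  haveI : Fact (Nat.Prime 2) := ⟨Nat.prime_two⟩
  obtain ⟨Q, hQ⟩ := (hP.comap_subtype (K := K)).exists_le_sylow
  have hall : ∀ (p : ℕ) (_hp : Fact p.Prime) (P : Sylow p K), (↑P : Subgroup K).Normal :=
    ((Group.isNilpotent_of_finite_tfae (G := K)).out 0 3).mp ‹Group.IsNilpotent K›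
  haveI : (S.subtype hSK : Subgroup K).Normal := hall 2 inferInstance _
  haveI hu := Sylow.unique_of_normal (S.subtype hSK) (inferInstance : (S.subtype hSK : Subgroup K).Normal)
  intro x hx
  have : (⟨x, hPK hx⟩ : K) ∈ (S.subtype hSK : Subgroup K) := by
    rw [← Subsingleton.elim Q (S.subtype hSK)]
    exact hQ (show (⟨x, hPK hx⟩ : K) ∈ P.comap K.subtype from hx)
  exact this

/-- The data attached to a Sylow 2-subgroup. -/
theorem hyp (h : IsSystem F) (hns : ¬ Group.IsSolvable G) (S : Sylow 2 G) :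
    CentTI.Hyp S ∧ CentTI.Aa S = (S : Subgroup G) ∧ (∀ t : G, orderOf t = 2 → t ∈ S →
      centralizer ({t} : Set G) = (S : Subgroup G)) ∧
      (∀ g x : G, x ∈ S → g⁻¹ * x * g ∈ S → x ≠ 1 → g ∈ normalizer ((S : Subgroup G) : Set G)) ∧
      Group.IsSolvable ↥(normalizer ((S : Subgroup G) : Set G)) := by
  haveI : Fact (Nat.Prime 2) := ⟨Nat.prime_two⟩
  obtain ⟨M, hM, hNM, hF⟩ := exists_kernel h hns S
  obtain ⟨hle, hn, hfpf, -⟩ := h M hM
  have hSM : (S : Subgroup G) ≤ M := le_normalizer.trans hNM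
  have hSF := sylow_le_kernel h hns hM hF S hSM
  haveI := kernel_nilpotent h hns hM
  have hMN : normalizer ((S : Subgroup G) : Set G) = M := by
    refine le_antisymm hNM fun m hm => ?_
    have hsub : ∀ k ∈ M, ∀ x ∈ S, k * x * k⁻¹ ∈ S := by
      intro k hk x hx
      refine mem_of_two_element S hSF (P := (S : Subgroup G).map (MulAut.conj k).toMonoidHom) (S.2.map _) ?_
        ⟨x, hx, rfl⟩
      rintro _ ⟨y, hy, rfl⟩
      exact (Subgroup.mem_normalizer_iff.mp (hn hk) y).mp (hSF hy)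
    refine Subgroup.mem_normalizer_iff.mpr fun x => ⟨hsub m hm x, fun hx => ?_⟩
    have := hsub m⁻¹ (inv_mem hm) _ hx
    rwa [inv_inv, show m⁻¹ * (m * x * m⁻¹) * m = x by group] at this
  obtain ⟨s, hs, s', hs', hso, hs'o, hne⟩ := two_involutions h hns S
  have hti : ∀ g x : G, x ∈ F M → g⁻¹ * x * g ∈ F M → x ≠ 1 → g ∈ M := fun g x hx hgx hx1 => by
    by_contra hg
    exact hx1 (eq_one_of_ti h hM hg hx hgx)
  have hse : IsStronglyEmbedded (CentTI.Nn S) := by
    refine ⟨fun e => hns ?_, ?_, fun g hg => ?_⟩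
    · haveI := solvable_normalizer_sylow S
      exact Group.isSolvable_of_surjective (f := (CentTI.Nn S).subtype) fun x => ⟨⟨x, e.symm ▸ mem_top x⟩, rfl⟩
    · rw [even_iff_two_dvd, ← hso]
      exact Subgroup.orderOf_dvd_natCard _ (Subgroup.le_normalizer hs)
    · rw [← Nat.not_even_iff_odd, even_iff_two_dvd]
      intro hd
      obtain ⟨⟨i, hi⟩, hio⟩ := exists_prime_orderOf_dvd_card'
        (G := ↥(CentTI.Nn S ⊓ (CentTI.Nn S).map (MulAut.conj g).toMonoidHom)) 2 hd
      rw [Subgroup.orderOf_mk] at hio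
      obtain ⟨hi1, j, hj, hji⟩ := hi
      have hji' : g * j * g⁻¹ = i := hji
      have hg' : g ∈ M := hti g i (hSF (CentTI.inv_mem_T hi1 hio)) (by
        rw [← hji', show g⁻¹ * (g * j * g⁻¹) * g = j by group]
        exact hSF (CentTI.inv_mem_T hj (by rw [← orderOf_conj g j, hji', hio])))
        (fun e => by rw [e, orderOf_one] at hio; omega)
      exact hg (hMN.symm ▸ hg' : g ∈ normalizer ((S : Subgroup G) : Set G))
  haveI : Nontrivial (S : Subgroup G) := ⟨⟨⟨s, hs⟩, ⟨s', hs'⟩, fun e => hne (congrArg Subtype.val e)⟩⟩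
  haveI := S.2.center_nontrivial
  obtain ⟨⟨⟨z, hzS⟩, hz⟩, hzo⟩ := exists_prime_orderOf_dvd_card' (G := ↥(center (S : Subgroup G))) 2
    (((S.2.to_subgroup (center (S : Subgroup G))).exists_card_eq).elim fun k hk => by
      rcases Nat.eq_zero_or_pos k with rfl | hk0
      · rw [pow_zero] at hk
        exact absurd hk Finite.one_lt_card.ne'
      · exact hk ▸ dvd_pow_self 2 hk0.ne')
  rw [Subgroup.orderOf_mk, Subgroup.orderOf_mk] at hzo
  obtain ⟨u, huN, huo⟩ : ∃ u : G, u ∉ CentTI.Nn S ∧ orderOf u = 2 := by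
    obtain ⟨g, hg⟩ : ∃ g : G, g ∉ CentTI.Nn S := by
      by_contra hh
      push Not at hh
      exact hse.1 ((Subgroup.eq_top_iff' _).mpr hh)
    exact ⟨g * s * g⁻¹, fun hm => hg (StrongEmb.mem_of_conj hse (le_normalizer hs) hso hm),
      by rw [orderOf_conj, hso]⟩
  have hcS : ∀ t ∈ S, orderOf t = 2 → ∀ x ∈ S, x * t = t * x := by
    intro t ht hto x hx
    obtain ⟨d, hd, e⟩ := StrongEmb.exists_conj_in_inter hse huo huN (le_normalizer hzS) hzo (le_normalizer ht) hto
    have hy : d⁻¹ * x * d ∈ (S : Subgroup G) := (Subgroup.mem_normalizer_iff''.mp hd.1 x).mp hx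
    have e1 : d⁻¹ * x * d * z = z * (d⁻¹ * x * d) :=
      congrArg Subtype.val (Subgroup.mem_center_iff.mp hz ⟨_, hy⟩)
    rw [← e]
    calc x * (d * z * d⁻¹) = d * (d⁻¹ * x * d * z) * d⁻¹ := by group
      _ = d * (z * (d⁻¹ * x * d)) * d⁻¹ := by rw [e1]
      _ = _ := by group
  have hcF : ∀ t ∈ S, orderOf t = 2 → ∀ x ∈ F M, x * t = t * x := by
    intro t ht hto x hx
    obtain ⟨k, m, hm, hk⟩ := Nat.exists_eq_pow_mul_and_not_dvd (orderOf_pos x).ne' 2 (by norm_num)
    have hodd : Nat.Coprime m 2 := ((Nat.prime_two.coprime_iff_not_dvd).mpr hm).symm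
    have hA : Commute t (x ^ (2 ^ k)) := by
      have hc := CfsgLib.commute_of_nilpotent (⟨t, hSF ht⟩ : F M) ⟨x ^ (2 ^ k), pow_mem hx _⟩ (by
        rw [Subgroup.orderOf_mk, Subgroup.orderOf_mk, hto]
        exact hodd.symm.coprime_dvd_right (orderOf_dvd_of_pow_eq_one (by rw [← pow_mul, ← hk, pow_orderOf_eq_one])))
      exact congrArg Subtype.val hc.eq
    have hB : Commute t (x ^ m) := by
      have hp : IsPGroup 2 (zpowers (x ^ m)) := by
        obtain ⟨j, -, hj⟩ := (Nat.dvd_prime_pow Nat.prime_two).mp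
          (orderOf_dvd_of_pow_eq_one (show (x ^ m) ^ (2 ^ k) = 1 by
            rw [← pow_mul, mul_comm, ← hk, pow_orderOf_eq_one]))
        exact IsPGroup.of_card (n := j) (by rw [Nat.card_zpowers, hj])
      exact (hcS t ht hto _ (mem_of_two_element S hSF hp (zpowers_le.mpr (pow_mem hx _)) (mem_zpowers _))).symm
    have hg := Nat.gcd_eq_gcd_ab (2 ^ k) m
    rw [Nat.coprime_iff_gcd_eq_one.mp (Nat.Coprime.pow_left k hodd.symm)] at hg
    have hx' : x = (x ^ (2 ^ k)) ^ Nat.gcdA (2 ^ k) m * (x ^ m) ^ Nat.gcdB (2 ^ k) m := by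
      rw [← zpow_natCast, ← zpow_natCast x m, ← zpow_mul, ← zpow_mul, ← zpow_add, ← hg, Nat.cast_one, zpow_one]
    rw [hx']
    exact ((hA.zpow_right _).mul_right (hB.zpow_right _)).symm.eq
  have hAa : CentTI.Aa S = F M := by
    refine le_antisymm (fun x hx => mem_of_commute h hM (hSF hs) (fun e => ?_) (CentTI.mem_A_iff.mp hx s hs hso).symm)
      fun x hx => CentTI.mem_A_iff.mpr fun t ht hto => (hcF t ht hto x hx).symm
    rw [e, orderOf_one] at hso
    omega
  have hH : CentTI.Hyp S := by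
    refine ⟨⟨s, hs, s', hs', hso, hs'o, hne⟩, hAa ▸ hSF, ?_, ?_, ?_, ?_, hse⟩
    · rw [hAa, show CentTI.Nn S = M from hMN]
      exact hle
    · intro t ht hto x hx
      rw [hAa]
      exact mem_of_commute h hM (hSF ht) (fun e => by rw [e, orderOf_one] at hto; omega) hx
    · intro b hb hb1 x hx
      rw [hAa] at hb
      rw [show CentTI.Nn S = M from hMN]
      exact hle (mem_of_commute h hM hb hb1 hx)
    · intro b hb g hg hgb
      rw [hAa] at hb hgb
      by_contra hb1
      exact hg (hMN.symm ▸ hti g b hb hgb hb1 : g ∈ normalizer ((S : Subgroup G) : Set G))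
  have h2 : IsPGroup 2 (CentTI.Aa S) := by
    classical
    haveI := Fintype.ofFinite G
    haveI := Fintype.ofFinite (G ⧸ CentTI.Nn S)
    obtain ⟨P, hPH, -, hEo⟩ := CentTI.exists_datum hH
    rw [← hPH]
    rcases P.feit hEo with hlt | ⟨hp, -, -⟩
    · obtain ⟨p, k, hp, hk0, hpk⟩ := (isPrimePow_nat_iff _).mp (P.isPrimePow_of_le hlt)
      have h2d : 2 ∣ Nat.card P.H := by
        rw [hPH, ← hso]
        exact Subgroup.orderOf_dvd_natCard _ (hH.T_le hs)
      obtain rfl : 2 = p := (Nat.prime_dvd_prime_iff_eq Nat.prime_two hp).mp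
        (Nat.prime_two.dvd_of_dvd_pow (hpk.symm ▸ h2d))
      exact IsPGroup.of_card (n := k) hpk.symm
    · exact hp
  have hFS : F M = (S : Subgroup G) := S.3 (hAa ▸ h2) hSF
  refine ⟨hH, hAa.trans hFS, fun t hto ht => le_antisymm (fun x hx => ?_) fun x hx => ?_, fun g x hx hgx hx1 => ?_, ?_⟩
  · rw [← hFS]
    exact mem_of_commute h hM (hSF ht) (fun e => by rw [e, orderOf_one] at hto; omega)
      (mem_centralizer_singleton_iff.mp hx)
  · exact mem_centralizer_singleton_iff.mpr (hcS t ht hto x hx)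
  · rw [hMN]
    exact hti g x (hSF hx) (hSF hgx) hx1
  · exact solvable_normalizer_sylow S

end CfsgLib.FrobSystem
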