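import Cfsg.Agent.Lib.FrobSystem.Kernel
import Cfsg.Agent.Lib.SuzukiUnique.CIT
import Cfsg.Prelude.Def_Sz

/-!
Groups with a Frobenius system are solvable, two-dimensional linear in characteristic two or Suzuki groups.
-/

set_option autoImplicit false
set_option linter.unusedSectionVars false
set_option linter.style.haveILetI false

namespace CfsgLib.FrobSystem

open Subgroup Cfsg
open scoped Pointwise
open CfsgLib.Involutions (mul_self_eq_one_of_orderOf inv_eq_self_of_orderOf orderOf_conj)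

variable {G : Type*} [Group G] [Finite G] {F : Subgroup G → Subgroup G}

theorem normal_eq_top (h : IsSystem F) (hns : ¬ Group.IsSolvable G) (N : Subgroup G) [hN : N.Normal] (hN1 : N ≠ ⊥) :
    N = ⊤ := by
  haveI : Fact (Nat.Prime 2) := ⟨Nat.prime_two⟩
  obtain ⟨S⟩ : Nonempty (Sylow 2 G) := inferInstance
  obtain ⟨hH, hA, -, -, hsolv⟩ := hyp h hns S
  have hNns : ¬ Group.IsSolvable N := fun hs => hN1 (radical h hns N hs)
  obtain ⟨i, hi, hio⟩ : ∃ i ∈ N, orderOf i = 2 := by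
    obtain ⟨⟨i, hi⟩, hio⟩ := exists_prime_orderOf_dvd_card' (G := N) 2 (by
      by_contra hh
      exact hNns (Cfsg.Agent.S0205.result (Nat.not_even_iff_odd.mp fun e => hh (even_iff_two_dvd.mp e))))
    exact ⟨i, hi, by rwa [Subgroup.orderOf_mk] at hio⟩
  have hall : ∀ t : G, orderOf t = 2 → t ∈ N := fun t ht => by
    obtain ⟨g, hg⟩ := isConj_iff.mp (StrongEmb.all_isConj (CentTI.se hH) hio ht)
    exact hg ▸ hN.conj_mem i hi g
  obtain ⟨u, hu, huH⟩ := CentTI.exists_u hH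
  have hD : ∀ d ∈ CentTI.Dd S u, d ∈ N := by
    intro d hd
    have e := CentTI.inverts hH hu huH d hd
    rw [inv_eq_self_of_orderOf hu] at e
    have hsq : (u * d) * (u * d) = 1 := by
      rw [show (u * d) * (u * d) = (u * d * u) * d by group, e, inv_mul_cancel]
    have hud : u * d ∈ N := by
      by_cases h1 : u * d = 1
      · rw [h1]; exact one_mem _
      · exact hall _ (Involutions.orderOf_eq_two_iff'.mpr ⟨hsq, h1⟩)
    have := mul_mem (inv_mem (hall u hu)) hud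
    rwa [inv_mul_cancel_left] at this
  obtain ⟨d, hd, hd1⟩ := CentTI.exists_D_ne_one hH hu huH
  have hSN : (S : Subgroup G) ≤ N := by
    intro y hy
    let f : ↥(S : Subgroup G) → ↥(S : Subgroup G) := fun x => ⟨(x : G)⁻¹ * (d * x * d⁻¹),
      mul_mem (inv_mem x.2) ((Subgroup.mem_normalizer_iff.mp hd.1 x).mp x.2)⟩
    have hinj : Function.Injective f := by
      intro a b e
      have e' : (a : G)⁻¹ * (d * a * d⁻¹) = (b : G)⁻¹ * (d * b * d⁻¹) := congrArg Subtype.val e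
      refine Subtype.ext (mul_inv_eq_one.mp (CentTI.fpf hH hu huH (a := (b : G) * (a : G)⁻¹)
        (hA.ge (mul_mem b.2 (inv_mem a.2))) hd hd1 ?_)).symm
      calc (b : G) * (a : G)⁻¹ * d = b * ((a : G)⁻¹ * (d * a * d⁻¹)) * (d * (a : G)⁻¹) := by group
        _ = b * ((b : G)⁻¹ * (d * b * d⁻¹)) * (d * (a : G)⁻¹) := by rw [e']
        _ = _ := by group
    obtain ⟨x, hx⟩ := Finite.injective_iff_surjective.mp hinj ⟨y, hy⟩
    rw [← show (x : G)⁻¹ * (d * x * d⁻¹) = y from congrArg Subtype.val hx,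
      show (x : G)⁻¹ * (d * x * d⁻¹) = ((x : G)⁻¹ * d * (x : G)⁻¹⁻¹) * d⁻¹ by group]
    exact mul_mem (hN.conj_mem d (hD d hd) _) (inv_mem (hD d hd))
  have hnN : CentTI.Nn S ≤ N := by
    intro x hx
    obtain ⟨e, he, a, ha, rfl⟩ := CentTI.decomp hH hu huH hx
    exact mul_mem (hD e he) (hSN (hA.le ha))
  have := Sylow.normalizer_sup_eq_top' S hSN
  exact (sup_eq_right.mpr hnN).symm.trans this

theorem main (h : IsSystem F) :
    Group.IsSolvable G ∨
      (∃ (K : Type) (_ : Field K) (_ : Fintype K), (∃ n : ℕ, 2 ≤ n ∧ Fintype.card K = 2 ^ n) ∧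
        Nonempty (G ≃* Matrix.SpecialLinearGroup (Fin 2) K)) ∨
      Cfsg.Lie.IsoSuzuki G := by
  refine or_iff_not_imp_left.mpr fun hns => ?_
  haveI : Fact (Nat.Prime 2) := ⟨Nat.prime_two⟩
  have hG : ∃ a b : G, a * b ≠ b * a := by
    by_contra hh
    push Not at hh
    exact hns (Group.isSolvable_of_comm hh)
  haveI : Nontrivial G := by
    obtain ⟨a, b, hab⟩ := hG
    exact ⟨⟨a * b, b * a, hab⟩⟩
  haveI : IsSimpleGroup G := ⟨fun N hN => or_iff_not_imp_left.mpr fun hN1 => normal_eq_top h hns N hN1⟩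
  have hC : CIT.IsCIT G := by
    intro t ht
    obtain ⟨S, hS⟩ := (IsPGroup.of_card (n := 1) (by rw [Nat.card_zpowers, ht, pow_one]) :
      IsPGroup 2 ↥(zpowers t)).exists_le_sylow
    rw [(hyp h hns S).2.2.1 t ht (hS (mem_zpowers t))]
    exact S.2
  have hTI : CIT.IsTI G := fun P g x hx hgx hx1 => (hyp h hns P).2.2.2.1 g x hx hgx hx1
  rcases CIT.ti_case hG hC hTI with ⟨K, iK, iKf, n, hn, hcard, ⟨e⟩⟩ | hS
  · haveI : CharP K 2 := charP_of_card_eq_prime_pow hcard
    exact Or.inl ⟨K, iK, iKf, ⟨n, hn, hcard⟩, ⟨e.trans CfsgLib.PrimeGraphExt.pslEquiv⟩⟩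
  · obtain ⟨K, iK, iKf, m, hm, hcard, -, he⟩ := SuzukiUnique.exists_equiv_of_suzType hG hC hTI hS
    exact Or.inr ⟨K, iK, iKf, m, hm, hcard, he⟩

end CfsgLib.FrobSystem
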